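import Groth.Agent.AlgSpDM.FieldZero
import Groth.Agent.AlgSpDec.Fibres
import Groth.Agent.AlgSpDec.Basic
import Groth.Agent.SpecLib.Constr
import Groth.Prelude.Def_Flat

/-!
# Isolated points of spaces locally of finite type over a field
-/

set_option autoImplicit false
set_option backward.isDefEq.respectTransparency false
set_option backward.isDefEq.respectTransparency.types false

universe u

open CategoryTheory CategoryTheory.Limits AlgebraicGeometry Opposite AlgSp Groth.Agent.AlgSpLib
open Topology TopologicalSpace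

namespace Groth.Agent.FieldDim

/-! ## Topology -/

section top
variable {T : Type*} [TopologicalSpace T]

/-- A nonempty open of Krull dimension `≤ 0`: specializations inside are symmetric. -/
theorem specializes_symm_of_dim_le_zero {O : Set T} (hd : topologicalKrullDim O ≤ 0) {y z : T}
    (hy : y ∈ O) (hz : z ∈ O) (h : y ⤳ z) : z ⤳ y := by
  let Y : IrreducibleCloseds O :=
    ⟨closure {(⟨y, hy⟩ : O)}, isIrreducible_singleton.closure, isClosed_closure⟩
  let Z : IrreducibleCloseds O :=
    ⟨closure {(⟨z, hz⟩ : O)}, isIrreducible_singleton.closure, isClosed_closure⟩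
  have h' : (⟨y, hy⟩ : O) ⤳ ⟨z, hz⟩ := (subtype_specializes_iff _ _).2 h
  have hle : Z ≤ Y := specializes_iff_closure_subset.1 h'
  have hge : Y ≤ Z := Order.krullDim_nonpos_iff_forall_isMax.1 hd Z hle
  exact (subtype_specializes_iff _ _).1 (specializes_iff_closure_subset.2 hge :
    (⟨z, hz⟩ : O) ⤳ ⟨y, hy⟩)

theorem zero_le_topologicalKrullDim [Nonempty T] : 0 ≤ topologicalKrullDim T := by
  obtain ⟨t⟩ := ‹Nonempty T›
  have : Nonempty (IrreducibleCloseds T) :=
    ⟨⟨closure {t}, isIrreducible_singleton.closure, isClosed_closure⟩⟩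
  exact Order.krullDim_nonneg

theorem zero_le_localDim (x : T) : 0 ≤ FlatMor.localDim T x := by
  refine le_iInf fun U => ?_
  have : Nonempty (U.1 : Set T) := ⟨⟨x, U.2⟩⟩
  exact zero_le_topologicalKrullDim

theorem localDim_eq_zero_of_isOpen {x : T} (h : IsOpen ({x} : Set T)) :
    FlatMor.localDim T x = 0 := by
  refine le_antisymm (iInf_le_of_le ⟨⟨{x}, h⟩, rfl⟩ ?_) (zero_le_localDim x)
  have : Subsingleton (({x} : Set T)) := Set.subsingleton_singleton.coe_sort
  exact topologicalKrullDim_zero_of_discreteTopology _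

theorem exists_open_of_localDim_eq_zero {x : T} (h : FlatMor.localDim T x = 0) :
    ∃ O : Opens T, x ∈ O ∧ topologicalKrullDim (O : Set T) ≤ 0 := by
  by_contra H
  push Not at H
  have h1 : (1 : WithBot ℕ∞) ≤ FlatMor.localDim T x := by
    refine le_iInf fun U => ?_
    exact (WithBot.one_le_iff_pos _).2 (H U.1 U.2)
  rw [h] at h1
  exact absurd h1 (by decide)

theorem localDim_le (x : T) : FlatMor.localDim T x ≤ topologicalKrullDim T :=
  iInf_le_of_le ⟨⊤, trivial⟩ (topologicalKrullDim_subspace_le T _)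

end top

/-! ## Schemes locally of finite type over a field -/

section sch
variable {T : Scheme.{u}} [IsLocallyNoetherian T]

theorem isOpen_of_isClosed {E : Set T} (hc : IsClosed E) (hs : StableUnderGeneralization E) :
    IsOpen E := by
  refine isOpen_iff_forall_mem_open.2 fun t ht => ?_
  obtain ⟨W, hW, htW, -⟩ := exists_isAffineOpen_mem_and_subset (U := (⊤ : T.Opens)) (x := t) trivial
  have : IsAffine W.toScheme := hW
  have : IsNoetherian W.toScheme := { }
  have : NoetherianSpace ↥W.toScheme := inferInstance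
  have hc' : IsClosed (W.ι ⁻¹' E) := hc.preimage W.ι.continuous
  have ho : IsOpen (W.ι ⁻¹' E) :=
    SpecLib.isOpen_of_isConstructible_of_stable (SpecLib.isConstructible_of_isClosed hc')
      fun a b hab ha => hs (hab.map W.ι.continuous) ha
  exact ⟨W.ι '' (W.ι ⁻¹' E), Set.image_preimage_subset _ _, W.ι.isOpenMap _ ho,
    ⟨⟨t, htW⟩, ht, rfl⟩⟩

theorem isClosed_of_isOpen {E : Set T} (ho : IsOpen E) (hs : StableUnderSpecialization E) :
    IsClosed E :=
  isOpen_compl_iff.1 (isOpen_of_isClosed (isClosed_compl_iff.2 ho) hs.compl)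

theorem isOpen_singleton_of_closed {t : T} (hc : IsClosed ({t} : Set T))
    (hg : ∀ t' : T, t' ⤳ t → t' = t) : IsOpen ({t} : Set T) :=
  isOpen_of_isClosed hc fun a b hab ha => hg b ((ha : a = t) ▸ hab)

theorem isOpen_singleton_iff_localDim [JacobsonSpace T] (t : T) :
    IsOpen ({t} : Set T) ↔ FlatMor.localDim T t = 0 := by
  refine ⟨localDim_eq_zero_of_isOpen, fun h => ?_⟩
  obtain ⟨O, htO, hO⟩ := exists_open_of_localDim_eq_zero h
  have key : ∀ v ∈ O, (v ⤳ t ∨ t ⤳ v) → v = t := by
    rintro v hv (hvt | htv)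
    · exact (hvt.antisymm (specializes_symm_of_dim_le_zero hO hv htO hvt)).eq
    · exact ((specializes_symm_of_dim_le_zero hO htO hv htv).antisymm htv).eq
  refine isOpen_singleton_of_closed ?_ fun t' h' => key t' (h'.mem_open O.2 htO) (Or.inl h')
  refine isClosed_singleton_of_isLocallyClosed_singleton ?_
  refine ⟨O, closure {t}, O.2, isClosed_closure, ?_⟩
  refine Set.Subset.antisymm (fun v hv => ?_) fun v hv => ?_
  · rw [(hv : v = t)]
    exact ⟨htO, subset_closure rfl⟩
  · exact key v hv.1 (Or.inr (specializes_iff_mem_closure.2 hv.2))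

end sch

/-! ## Spaces over a field -/

variable {k : Type u} [Field k]

variable {X : Sp (Spec (CommRingCat.of k))} {p : X ⟶ (yon (Spec (CommRingCat.of k))).obj (Over.mk (𝟙 _))}
  (hp : LocP @LocallyOfFiniteType p)

include hp

theorem lft_chart {U : Over (Spec (CommRingCat.of k))} {a : (yon (Spec (CommRingCat.of k))).obj U ⟶ X} (ha : RepWith @Etale a) :
    LocallyOfFiniteType U.hom := AlgSpDM.chart_locP hp ha

/-- Over an isolated point all points of a chart are open and closed. -/
theorem isOpen_of_mem_isOpen {x : Points X} (hx : IsOpen ({x} : Set (Points X))) {U : Over (Spec (CommRingCat.of k))}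
    {a : (yon (Spec (CommRingCat.of k))).obj U ⟶ X} (ha : RepWith @Etale a) {u : ↥U.left} (hu : Points.ofPt a u = x) :
    IsClosed ({u} : Set ↥U.left) ∧ IsOpen ({u} : Set ↥U.left) := by
  have : LocallyOfFiniteType U.hom := lft_chart hp ha
  have := LocallyOfFiniteType.isLocallyNoetherian U.hom
  have : JacobsonSpace ↥U.left := LocallyOfFiniteType.jacobsonSpace U.hom
  have hF : IsOpen (Points.ofPt a ⁻¹' {x}) := hx.preimage (Points.continuous_ofPt a)
  obtain ⟨u₀, hu₀, hc₀⟩ := nonempty_inter_closedPoints (Z := Points.ofPt a ⁻¹' {x})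
    ⟨u, hu⟩ hF.isLocallyClosed
  have cl : ∀ v : ↥U.left, Points.ofPt a v = x → IsClosed ({v} : Set ↥U.left) := by
    intro v hv
    obtain ⟨r, hr1, hr2⟩ := exists_ofPt_of_eq (ha.rep.isPullback' a)
      (hv.trans (hu₀ : Points.ofPt a u₀ = x).symm)
    have : Etale (ha.rep.snd a).left := ha.property_snd a
    have : Etale (ha.rep.fst' a).left := ha.property a _ _ (ha.rep.isPullback' a).flip
    let f₁ := (ha.rep.fst' a).left
    let f₂ := (ha.rep.snd a).left
    have hcl : IsClosed (f₂ ⁻¹' {u₀}) := (hc₀ : IsClosed ({u₀} : Set ↥U.left)).preimage f₂.continuous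
    have hd : DiscreteTopology ↥(f₂ ⁻¹' {u₀}) :=
      isDiscrete_iff_discreteTopology.1 (f₂.isDiscrete_preimage_singleton u₀)
    have hrc : IsClosed ({r} : Set ↥(ha.rep.pullback a).left) := by
      have := hcl.isClosedEmbedding_subtypeVal.isClosedMap _
        (isClosed_discrete ({⟨r, hr2⟩} : Set ↥(f₂ ⁻¹' {u₀})))
      simpa using this
    have := f₁.closePoints_subset_preimage_closedPoints hrc
    simpa [f₁, hr1, mem_closedPoints_iff] using this
  refine ⟨cl u hu, isOpen_singleton_of_closed (cl u hu) fun u' h => ?_⟩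
  have hu' : Points.ofPt a u' = x := h.mem_open hF hu
  exact (specializes_iff_mem_closure.1 h |> fun h' => by
    rw [(cl u' hu').closure_eq] at h'; exact h'.symm)

/-- An isolated point is closed. -/
theorem isClosed_of_isOpen_singleton (hA : IsAlgSpace X) {x : Points X}
    (hx : IsOpen ({x} : Set (Points X))) : IsClosed ({x} : Set (Points X)) := by
  obtain ⟨U, a, ha, hs⟩ := hA.atlas
  have : LocallyOfFiniteType U.hom := lft_chart hp ha
  have := LocallyOfFiniteType.isLocallyNoetherian U.hom
  rw [← isOpen_compl_iff, isOpen_iff_chart ha hs, Set.preimage_compl, isOpen_compl_iff]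
  refine isClosed_of_isOpen (hx.preimage (Points.continuous_ofPt a)) fun u v huv hu => ?_
  have := (isOpen_of_mem_isOpen hp hx ha hu).1
  have h2 := specializes_iff_mem_closure.1 huv
  rw [this.closure_eq] at h2
  rwa [(h2 : v = u)]

theorem isOpen_singleton_iff (hA : IsAlgSpace X) (x : Points X) :
    IsOpen ({x} : Set (Points X)) ↔
      (IsClosed ({x} : Set (Points X)) ∧ ∀ x' : Points X, x' ⤳ x → x' = x) := by
  refine ⟨fun hx => ⟨isClosed_of_isOpen_singleton hp hA hx,
    fun x' h => h.mem_open hx rfl⟩, fun ⟨hc, hg⟩ => ?_⟩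
  obtain ⟨U, a, ha, hs⟩ := hA.atlas
  have : LocallyOfFiniteType U.hom := lft_chart hp ha
  have := LocallyOfFiniteType.isLocallyNoetherian U.hom
  rw [isOpen_iff_chart ha hs]
  refine isOpen_of_isClosed (hc.preimage (Points.continuous_ofPt a)) fun u v hvu hu => ?_
  exact hg _ ((hu : Points.ofPt a u = x) ▸ hvu.map (Points.continuous_ofPt a))

theorem isOpen_singleton_iff_hasAt (hA : IsAlgSpace X) (x : Points X) :
    IsOpen ({x} : Set (Points X)) ↔ HasAt (fun U u => FlatMor.localDim ↥U u = 0) X x := by
  constructor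
  · intro hx
    obtain ⟨U, a, ha, hs⟩ := hA.atlas
    obtain ⟨u, hu⟩ := surjective_ofPt hs x
    exact ⟨U, a, u, ha, hu, localDim_eq_zero_of_isOpen (isOpen_of_mem_isOpen hp hx ha hu).2⟩
  · rintro ⟨U, a, u, ha, rfl, hu⟩
    have : LocallyOfFiniteType U.hom := lft_chart hp ha
    have := LocallyOfFiniteType.isLocallyNoetherian U.hom
    have : JacobsonSpace ↥U.left := LocallyOfFiniteType.jacobsonSpace U.hom
    have := isOpenMap_ofPt ha _ ((isOpen_singleton_iff_localDim u).2 hu)
    rwa [Set.image_singleton] at this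

theorem localDim_points_eq_zero_iff (hA : IsAlgSpace X) (hd : IsDecent X) (x : Points X) :
    FlatMor.localDim (Points X) x = 0 ↔ IsOpen ({x} : Set (Points X)) := by
  refine ⟨fun h => ?_, localDim_eq_zero_of_isOpen⟩
  obtain ⟨O, hxO, hO⟩ := exists_open_of_localDim_eq_zero h
  have := AlgSpDec.t0Space_points hA hd
  obtain ⟨U, a, ha, hs⟩ := hA.atlas
  obtain ⟨u, rfl⟩ := surjective_ofPt hs x
  have : LocallyOfFiniteType U.hom := lft_chart hp ha
  have := LocallyOfFiniteType.isLocallyNoetherian U.hom
  have : JacobsonSpace ↥U.left := LocallyOfFiniteType.jacobsonSpace U.hom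
  have hOU : IsOpen (Points.ofPt a ⁻¹' O) := O.2.preimage (Points.continuous_ofPt a)
  have key : ∀ v w : ↥U.left, Points.ofPt a v ∈ O → Points.ofPt a w ∈ O → v ⤳ w → w = v := by
    intro v w hv hw hvw
    have h1 : Points.ofPt a v ⤳ Points.ofPt a w := hvw.map (Points.continuous_ofPt a)
    exact AlgSpDec.eq_of_specializes_of_isDecent hd ha
      (h1.antisymm (specializes_symm_of_dim_le_zero hO hv hw h1)).eq.symm hvw
  have : IsOpen ({u} : Set ↥U.left) := by
    refine isOpen_singleton_of_closed ?_ fun u' h' => (key u' u (h'.mem_open hOU hxO) hxO h').symm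
    refine isClosed_singleton_of_isLocallyClosed_singleton ?_
    refine ⟨_, closure {u}, hOU, isClosed_closure, ?_⟩
    refine Set.Subset.antisymm (fun v hv => ?_) fun v hv => ?_
    · rw [(hv : v = u)]
      exact ⟨hxO, subset_closure rfl⟩
    · exact key u v hxO hv.1 (specializes_iff_mem_closure.2 hv.2)
  have := isOpenMap_ofPt ha _ this
  rwa [Set.image_singleton] at this

theorem discreteTopology_iff_dim (hA : IsAlgSpace X) [Nonempty (Points X)] :
    DiscreteTopology (Points X) ↔ AlgSp.dim X = 0 := by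
  constructor
  · intro _
    refine le_antisymm (AlgSpPts.dim_le_iff.2 fun U a ha u => ?_) ?_
    · have : DiscreteTopology ↥U.left := discreteTopology_iff_isOpen_singleton.2 fun v =>
        (isOpen_of_mem_isOpen hp (isOpen_discrete _) ha (u := v) rfl).2
      rw [show Order.coheight u = 0 from Order.coheight_eq_zero.2 fun v hv => by
        rw [show v = u from (specializes_iff_eq.1 (show v ⤳ u from hv))]]
      rfl
    · obtain ⟨U, a, ha, hs⟩ := hA.atlas
      obtain ⟨x⟩ := ‹Nonempty (Points X)›
      obtain ⟨u, -⟩ := surjective_ofPt hs x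
      exact le_trans (WithBot.coe_le_coe.2 zero_le) (AlgSpPts.coheight_le_dim ha u)
  · intro hd
    refine discreteTopology_iff_isOpen_singleton.2 fun x => ?_
    obtain ⟨U, a, ha, hs⟩ := hA.atlas
    obtain ⟨u, rfl⟩ := surjective_ofPt hs x
    have := AlgSpDM.discreteTopology_chart hp hd.le ha
    have := isOpenMap_ofPt ha _ (isOpen_discrete {u})
    rwa [Set.image_singleton] at this

theorem dim_eq_zero_of_finite (hA : IsAlgSpace X) (hd : IsDecent X) [Nonempty (Points X)]
    [Finite (Points X)] : AlgSp.dim X = 0 := by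
  rw [← discreteTopology_iff_dim hp hA]
  refine discreteTopology_iff_isOpen_singleton.2 fun x => ?_
  obtain ⟨U, a, u, hU, ha, rfl⟩ := AlgSpDec.exists_affine_chart_at hA x
  have : LocallyOfFiniteType U.hom := lft_chart hp ha
  have : JacobsonSpace ↥U.left := LocallyOfFiniteType.jacobsonSpace U.hom
  have : Finite ↥U.left := Set.finite_univ_iff.1 <| by
    rw [show (Set.univ : Set ↥U.left) = ⋃ y : Points X, Points.ofPt a ⁻¹' {y} by ext v; simp]
    exact Set.finite_iUnion fun y => AlgSpDec.finite_fibre hA hd ha y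
  have := isOpenMap_ofPt ha _ (isOpen_discrete {u})
  rwa [Set.image_singleton] at this

end Groth.Agent.FieldDim
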